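import Groth.Agent.NormBundleLib.MulNorm
import Groth.Agent.NormDescLib.FinLocFree
import Groth.Agent.CubeLib.Glue
import Groth.Agent.AmpleThLib.Pow

/-!
# Line bundles killed by a finite locally free covering are torsion
-/

set_option autoImplicit false
universe u

open CategoryTheory CategoryTheory.Limits AlgebraicGeometry TopologicalSpace Opposite
open AmpleLib
open AmpleThLib
open KFlatLib (pb puSec puSecLE)
open NormDescLib (rs rs_rs HasBasis normR)
open NormBundleLib (Good IsNorm nm nm_eq nm_rs)

noncomputable section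

namespace PicTorsNormLib

variable {X' X : Scheme.{u}} (f : X' ⟶ X) [IsFinite f] [Flat f] [LocallyOfFinitePresentation f]

theorem hcov (x : X) : ∃ D, Good f D ∧ x ∈ D := by
  obtain ⟨D, hD, hx, hb⟩ := NormDescLib.exists_hasBasis f x
  exact ⟨D, ⟨hD, _, hb⟩, hx⟩

/-- On a nonempty good open the rank of the basis is the degree. -/
theorem rank_eq {d : ℕ} (hd : ∀ x : X, f.finrank x = d) {D : X.Opens} (hD : IsAffineOpen D) {n : ℕ}
    (hb : HasBasis (f.app D).hom n) {x : X} (hx : x ∈ D) : n = d := by
  obtain ⟨E, hE, hxE, hbE⟩ := NormDescLib.exists_hasBasis f x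
  rw [hd x] at hbE
  obtain ⟨a, b, hab, hxa⟩ := exists_basicOpen_le_affine_inter hD hE x ⟨hx, hxE⟩
  have h1 := (NormDescLib.FreeOn.basic f (d := d) hD a hb).1
  have h2 := (NormDescLib.FreeOn.basic f (d := d) hE b hbE).1
  rw [← hab] at h2
  haveI : Nonempty (X.basicOpen a) := ⟨⟨x, hxa⟩⟩
  exact NormDescLib.hasBasis_unique h1 h2

/-- The norm of a function from the base is its power by the degree. -/
theorem nm_app {d : ℕ} (hd : ∀ x : X, f.finrank x = d) {U : X.Opens} (g : Γ(X, U)) :
    nm f (hcov f) U (f.app U g) = g ^ d := by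
  refine nm_eq f (hcov f) fun D hD h => ?_
  obtain ⟨hA, n, hb⟩ := hD
  have h1 : rs (f.preimage_mono h) (f.app U g) = f.app D (rs h g) :=
    (ConcreteCategory.congr_hom (f.naturality (homOfLE h).op) g).symm
  rw [h1, NormDescLib.normR_app hb]
  rcases D.1.eq_empty_or_nonempty with he | ⟨x, hx⟩
  · have : D = ⊥ := SetLike.ext' he
    subst this
    exact Subsingleton.elim _ _
  · rw [rank_eq f hd hA hb hx]
    exact map_pow _ _ _

theorem pow_trivial {d : ℕ} (hd : ∀ x : X, f.finrank x = d) {L : X.Modules} (hL : PicF.IsInvertible L)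
    (htriv : Nonempty (pb f L ≅ Coh.structureModule X')) :
    Nonempty (CohB1.tensorPow L d ≅ Coh.structureModule X) := by
  obtain ⟨s, hs⟩ := CubeLib.exists_genOn_top htriv
  choose v hv using fun a : Gens L => (hs (f ⁻¹ᵁ a.1) le_top).2 (puSecLE f L le_rfl a.2.1)
  dsimp only at hv
  have hvu : ∀ a : Gens L, IsUnit (v a) := fun a =>
    CubeLib.isUnit_of_genOn (hs.res le_top) (by rw [hv]; exact CubeLib.genOn_puSecLE f a.2.2 le_rfl)
  let N : ∀ a : Gens L, Γ(Coh.structureModule X, a.1) := fun a =>
    (show Γ(Coh.structureModule X, a.1) from nm f (hcov f) a.1 (v a))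
  have hN : ∀ a, GenOn (Coh.structureModule X) (N a) := fun a => by
    have := CubeLib.genOn_unit_smul (one_genOn a.1) ((hvu a).map (nm f (hcov f) a.1))
    have e : (nm f (hcov f) a.1 (v a)) • (show Γ(Coh.structureModule X, a.1) from (1 : Γ(X, a.1))) = N a :=
      mul_one (nm f (hcov f) a.1 (v a))
    rwa [← e]
  obtain ⟨φ, -⟩ := exists_iso_gens (M := CohB1.tensorPow L d) (N := Coh.structureModule X)
    (fun a : Gens L => a.1) (fun a => pS a.2.1 d) N (gens_cover hL) (fun a => pS_genOn a.2.2 d) hN
    (fun a b V ha hb => by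
      obtain ⟨g, hg⟩ := (a.2.2 V ha).2 (res L hb b.2.1)
      dsimp only at hg
      refine ⟨g ^ d, ?_, ?_⟩
      · rw [pS_res, pS_res, ← hg, pS_smul]
      · have key : f.app V g * rs (f.preimage_mono ha) (v a) = rs (f.preimage_mono hb) (v b) := by
          refine (hs (f ⁻¹ᵁ V) le_top).1 ?_
          dsimp only
          have e1 : ∀ (c : Gens L) (hc : V ≤ c.1), rs (f.preimage_mono hc) (v c) • res (pb f L) le_top s =
              puSecLE f L le_rfl (res L hc c.2.1) := fun c hc => by
            rw [CubeLib.puSecLE_res]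
            have h1 := congrArg (res (pb f L) (f.preimage_mono hc)) (hv c)
            rw [res_smul, res_res] at h1
            refine h1.trans ?_
            rw [KFlatLib.puSecLE_apply, KFlatLib.puSecLE_apply]
            exact QCohLib.map_map' (pb f L) _ _ _
          rw [mul_smul, e1 a ha, e1 b hb, ← hg, KFlatLib.puSecLE_smul, Scheme.Hom.appLE_eq_app]
        change g ^ d * rs ha (nm f (hcov f) a.1 (v a)) = rs hb (nm f (hcov f) b.1 (v b))
        rw [nm_rs, nm_rs, ← nm_app f hd g, ← map_mul, key])
  exact ⟨φ⟩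

end PicTorsNormLib
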